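import Cfsg.Agent.Omega.OM.SwapL.PlugZ

/-!
# THEOREM SW at the levels `n ≥ 0`, `q = 2`, over an abstract module `V` (box R): the ground frame

* `LnV S V Q n L W Z C A` : the frame `FrL` over `B = C_S(Z_J)`, `Z_J = Ω₁Z(lev S (n+1))`, `X = Ω₁Z(lev S n)`, with
  module `V`; `V ≤ O₂(C_G(Z(S)))`; `V` commutes with `V^f` if both `V^f ≤ T`, `V ≤ T^f` for a 2-group `T ≥ B`;
* `perm` : `N_G(B)` permutes the triples `(W i, Z i, Z_J ∩ C i)`; supports of the elements of `Z_J`.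
(The proofs of `SwapL/Frame.lean`.)
-/

set_option autoImplicit false
set_option linter.unusedSectionVars false

namespace Cfsg.Agent.Omega.OM.SwapV.Lv

open Subgroup Cfsg Cfsg.Agent.ZN.ChoiceBase Cfsg.Agent.ZN.ChoiceSit
open Cfsg.Agent.ZN (jj zj bau zc zl o2)
open Cfsg.Agent.Omega.NO3S.Level (lev Lev lev_isLev)
open Cfsg.Agent.Omega.OM.LevD (LB)
open Cfsg.Agent.Omega.OM.Lev.Uni (FrL)
open Cfsg.Agent.Omega.OM.UniPlus (NB)
open Cfsg.Agent.Omega.OM.WeakCl (WC)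
open Cfsg.Agent.Omega.OM.SwapL (ZL BL lb wc cj_mul_eq cj_inv_eq norm_lev nb mem_C_iff)

universe u

variable {G : Type u} [Group G] [Finite G]

/-- The ground frame at stage `n` over an abstract module `V`. -/
structure LnV {ι : Type} (S : Sylow 2 G) (V Q : Subgroup G) (n : ℕ) (L W Z C A : ι → Subgroup G) : Prop where
  fr : FrL (BL (S : Subgroup G) n) Q V (zc (lev (S : Subgroup G) n)) (ZL (S : Subgroup G) n) L W Z C A 2
  levQ : lev (S : Subgroup G) n ≤ Q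
  char2 : IsCharacteristicTwoType G
  low : V ≤ o2 (centralizer (zc (S : Subgroup G) : Set G))
  noff : ∀ T : Subgroup G, IsPGroup 2 T → BL (S : Subgroup G) n ≤ T → ∀ f : G, cj f V ≤ T → V ≤ cj f T →
    ∀ x ∈ V, ∀ y ∈ V, x * (f * y * f⁻¹) = f * y * f⁻¹ * x

section line

variable {ι : Type} {S : Sylow 2 G} {V Q : Subgroup G} {n : ℕ} {L W Z C A : ι → Subgroup G}

variable [Finite ι]

/-- **(U1)** -/
theorem LnV.norm (h : LnV S V Q n L W Z C A) {g : G} (hg : g ∈ normalizer (BL (S : Subgroup G) n : Set G)) :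
    cj g V = V ∧
      ∀ i, ∃ j, cj g (Z i) = Z j ∧ cj g (W i) ≤ W j ⊔ ZL (S : Subgroup G) n :=
  h.fr.norm_of hg (NO3S.Level.normalizer_le_zc _ (norm_lev S (by omega) hg))

theorem LnV.norm_le (h : LnV S V Q n L W Z C A) :
    normalizer (BL (S : Subgroup G) n : Set G) ≤ normalizer (V : Set G) := fun g hg => by
  rw [mem_normalizer_iff_cj]
  exact (h.norm hg).1

/-- `N_G(B)` permutes the triples `(W i, Z i, Z_J ∩ C i)`. -/
theorem perm (h : LnV S V Q n L W Z C A) {g : G} (hg : g ∈ normalizer (BL (S : Subgroup G) n : Set G)) (i : ι) :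
    ∃ j, cj g (Z i) = Z j ∧ cj g (W i) = W j ∧
      ∀ z ∈ ZL (S : Subgroup G) n, (g * z * g⁻¹ ∈ C j ↔ z ∈ C i) := by
  have hN := (nb h.fr i).conj g
  rw [cj_eq_of_mem_normalizer hg] at hN
  obtain ⟨j, hZ, hW⟩ := (h.norm hg).2 i
  rw [hZ] at hN
  rw [← h.fr.zcB] at hW
  have hB2 : IsPGroup 2 (BL (S : Subgroup G) n) := (lb S n).Bp
  obtain ⟨h1, h2, -⟩ := UniPlus.uni_two (wc S n) hB2 (nb h.fr j) hN hW
  obtain ⟨-, h3, -⟩ := UniPlus.uni_two (wc S n) hB2 hN (nb h.fr j) (h1.ge.trans le_sup_left)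
  refine ⟨j, hZ, h1, fun z hz => ?_⟩
  have hz' : g * z * g⁻¹ ∈ ZL (S : Subgroup G) n := by
    have h4 := cj_eq_of_mem_normalizer ((lb S n).norm_B_le hg)
    rw [← h4]
    exact ⟨z, hz, rfl⟩
  have hzc : g * z * g⁻¹ ∈ zc (BL (S : Subgroup G) n) := by rw [h.fr.zcB]; exact hz'
  rw [mem_C_iff h.fr hz', mem_C_iff h.fr hz]
  constructor
  · intro h4 l hl
    have h5 := h2 _ hzc h4 (g * l * g⁻¹) ⟨l, hl, rfl⟩
    have h6 := congrArg (fun t => g⁻¹ * t * g) h5
    simpa [mul_assoc] using h6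
  · intro h4
    refine h3 _ hzc fun l hl => ?_
    have h5 := h4 _ (mem_cj.1 hl)
    have h6 := congrArg (fun t => g * t * g⁻¹) h5
    simpa [mul_assoc] using h6

omit [Finite ι] in
theorem Z_ne (h : LnV S V Q n L W Z C A) (i : ι) : ∃ z ∈ Z i, z ≠ 1 := by
  have h1 : 1 < Nat.card (Z i) := by rw [h.fr.cardZ i]; norm_num
  have : Nontrivial (Z i) := Finite.one_lt_card_iff_nontrivial.1 h1
  obtain ⟨z, hz⟩ := exists_ne (1 : Z i)
  exact ⟨z, z.2, fun h => hz (Subtype.ext h)⟩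

omit [Finite ι] in
theorem Z_W (h : LnV S V Q n L W Z C A) (i : ι) : Z i ≤ W i := (h.fr.blk i).ZV

omit [Finite ι] in
theorem not_mem_C (h : LnV S V Q n L W Z C A) {i : ι} {z : G} (hz : z ∈ Z i) (h1 : z ≠ 1) : z ∉ C i := by
  intro hc
  have h2 : z ∈ W i ⊓ C i := mem_inf.2 ⟨Z_W h i hz, hc⟩
  rw [h.fr.dir i, mem_bot] at h2
  exact h1 h2

omit [Finite ι] in
theorem Z_C (h : LnV S V Q n L W Z C A) {i j : ι} (hij : i ≠ j) : Z j ≤ C i := (Z_W h j).trans (h.fr.WjC i j hij)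

omit [Finite ι] in
/-- `Z` is injective. -/
theorem Z_inj (h : LnV S V Q n L W Z C A) {i j : ι} (e : Z i = Z j) : i = j := by
  by_contra hne
  obtain ⟨z, hz, hz1⟩ := Z_ne h i
  exact not_mem_C h hz hz1 (Z_C h hne (e ▸ hz))

omit [Finite ι] in
theorem Z_eq (h : LnV S V Q n L W Z C A) {i : ι} {x y : G} (hx : x ∈ Z i) (hy : y ∈ Z i) (hx1 : x ≠ 1)
    (hy1 : y ≠ 1) : x = y := UniPlus.eq_of_card_two (h.fr.cardZ i) hx hy hx1 hy1

omit [Finite ι] in
/-- If `g` normalises `Z i` it centralises it. -/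
theorem cent_of_cj (h : LnV S V Q n L W Z C A) {i : ι} {g : G} (e : cj g (Z i) = Z i) {z : G} (hz : z ∈ Z i) :
    g * z = z * g := by
  by_cases h1 : z = 1
  · rw [h1]; simp
  have h2 : g * z * g⁻¹ ∈ Z i := by rw [← e]; exact ⟨z, hz, rfl⟩
  have h3 := Z_eq h h2 hz (fun h3 => h1 (by simpa using h3)) h1
  exact mul_inv_eq_iff_eq_mul.1 h3

omit [Finite ι] in
/-- If `g` moves `Z i` to `Z j` it moves the generator to the generator. -/
theorem conj_gen (h : LnV S V Q n L W Z C A) {i j : ι} {g : G} (e : cj g (Z i) = Z j) {z w : G} (hz : z ∈ Z i)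
    (h1 : z ≠ 1) (hw : w ∈ Z j) (h2 : w ≠ 1) : g * z * g⁻¹ = w :=
  Z_eq h (by rw [← e]; exact ⟨z, hz, rfl⟩) hw (fun h3 => h1 (by simpa using h3)) h2

omit [Finite ι] in
/-- An element of `Z_J` is determined by its support. -/
theorem eq_of_supp (h : LnV S V Q n L W Z C A) {x y : G} (hx : x ∈ ZL (S : Subgroup G) n)
    (hy : y ∈ ZL (S : Subgroup G) n) (hs : ∀ i, x ∈ C i ↔ y ∈ C i) : x = y := by
  have hxV := h.fr.ZJV hx
  have hyV := h.fr.ZJV hy
  have h1 : x * y⁻¹ = 1 := by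
    refine h.fr.C0 _ (mul_mem hxV (inv_mem hyV)) fun i => ?_
    by_cases hxi : x ∈ C i
    · exact mul_mem hxi (inv_mem ((hs i).1 hxi))
    have hyi : y ∉ C i := fun hc => hxi ((hs i).2 hc)
    obtain ⟨w, hw, c, hc, -, e⟩ := h.fr.split_ZJ i hx
    obtain ⟨w', hw', c', hc', -, e'⟩ := h.fr.split_ZJ i hy
    have hw1 : w ≠ 1 := by
      rintro rfl
      exact hxi (by rw [e, one_mul]; exact hc)
    have hw1' : w' ≠ 1 := by
      rintro rfl
      exact hyi (by rw [e', one_mul]; exact hc')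
    have h2 := Z_eq h hw hw' hw1 hw1'
    have h3 : w * c = c * w := h.fr.Vc (h.fr.ZV i hw) (h.fr.CV i hc)
    have h4 : w * c' = c' * w := h.fr.Vc (h.fr.ZV i hw) (h.fr.CV i hc')
    have e1 : x * y⁻¹ = c * c'⁻¹ := by
      rw [e, e', ← h2, h3, h4]; group
    rw [e1]
    exact mul_mem hc (inv_mem hc')
  exact mul_inv_eq_one.1 h1

/-- Every subset of the index set is a support. -/
theorem exists_supp (h : LnV S V Q n L W Z C A) (s : Set ι) :
    ∃ x ∈ ZL (S : Subgroup G) n, ∀ i, (x ∈ C i ↔ i ∉ s) := by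
  classical
  have : Fintype ι := Fintype.ofFinite ι
  suffices H : ∀ t : Finset ι, ∃ x ∈ ZL (S : Subgroup G) n, ∀ i, (x ∈ C i ↔ i ∉ t) by
    obtain ⟨x, hx, hs⟩ := H s.toFinset
    exact ⟨x, hx, fun i => by rw [hs i, Set.mem_toFinset]⟩
  intro t
  induction t using Finset.induction_on with
  | empty => exact ⟨1, one_mem _, fun i => by simp [one_mem]⟩
  | insert j t hj ih =>
    obtain ⟨x, hx, hs⟩ := ih
    obtain ⟨z, hz, hz1⟩ := Z_ne h j
    refine ⟨x * z, mul_mem hx (h.fr.Z_le j hz), fun i => ?_⟩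
    by_cases hij : i = j
    · subst hij
      have h1 : x ∈ C i := (hs i).2 hj
      constructor
      · intro h2
        exact absurd ((Subgroup.mul_mem_cancel_left _ h1).1 h2) (not_mem_C h hz hz1)
      · intro h2
        exact absurd (Finset.mem_insert_self i t) h2
    · have h1 : z ∈ C i := Z_C h hij hz
      rw [Subgroup.mul_mem_cancel_right _ h1, hs i, Finset.mem_insert, not_or]
      exact ⟨fun h2 => ⟨hij, h2⟩, fun h2 => h2.2⟩

/-- The support of a conjugate under `N_G(B)`. -/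
theorem supp_cj (h : LnV S V Q n L W Z C A) {g : G} (hg : g ∈ normalizer (BL (S : Subgroup G) n : Set G)) {i j : ι}
    (e : cj g (Z i) = Z j) {z : G} (hz : z ∈ ZL (S : Subgroup G) n) : g * z * g⁻¹ ∈ C j ↔ z ∈ C i := by
  obtain ⟨k, h1, -, h2⟩ := perm h hg i
  have h3 : j = k := Z_inj h (e.symm.trans h1)
  rw [h3]
  exact h2 z hz

theorem W_cj (h : LnV S V Q n L W Z C A) {g : G} (hg : g ∈ normalizer (BL (S : Subgroup G) n : Set G)) {i j : ι}
    (e : cj g (Z i) = Z j) : cj g (W i) = W j := by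
  obtain ⟨k, h1, h2, -⟩ := perm h hg i
  have h3 : j = k := Z_inj h (e.symm.trans h1)
  rw [h3]
  exact h2

omit [Finite ι] in
theorem ZL_cj_mem {g : G} (hg : g ∈ normalizer (BL (S : Subgroup G) n : Set G)) {z : G}
    (hz : z ∈ ZL (S : Subgroup G) n) : g * z * g⁻¹ ∈ ZL (S : Subgroup G) n := by
  have h3 := cj_eq_of_mem_normalizer ((lb S n).norm_B_le hg)
  rw [← h3]
  exact ⟨z, hz, rfl⟩

/-- `g ∈ N_G(B)` centralises `z ∈ Z_J` if it stabilises its support. -/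
theorem comm_of_supp (h : LnV S V Q n L W Z C A) {g : G} (hg : g ∈ normalizer (BL (S : Subgroup G) n : Set G)) {z : G}
    (hz : z ∈ ZL (S : Subgroup G) n) (hs : ∀ i j, cj g (Z i) = Z j → (z ∈ C i ↔ z ∈ C j)) : g * z = z * g := by
  have h1 : g * z * g⁻¹ = z := by
    refine eq_of_supp h (ZL_cj_mem hg hz) hz fun j => ?_
    obtain ⟨i, hi, -, -⟩ := perm h (inv_mem hg) j
    have e : cj g (Z i) = Z j := by
      have := cj_inv_eq hi
      rwa [inv_inv] at this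
    rw [supp_cj h hg e hz]
    exact hs i j e
  exact mul_inv_eq_iff_eq_mul.1 h1

end line

end Cfsg.Agent.Omega.OM.SwapV.Lv
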