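import Cfsg.Agent.Omega.OM.SwapV.Lv.Off

/-!
# THEOREM SW at the levels over `LnV`: supports of the elements of `Z_J` (the proofs of `SwapL/Inv.lean`)
-/

set_option autoImplicit false
set_option linter.unusedSectionVars false

namespace Cfsg.Agent.Omega.OM.SwapV.Lv

open Subgroup Cfsg Cfsg.Agent.ZN.ChoiceBase Cfsg.Agent.ZN.ChoiceSit
open Cfsg.Agent.ZN (jj zj bau zc zl o2)
open Cfsg.Agent.MinSimple.MinParabolic (IsMinPar)
open Cfsg.Agent.MinSimple.VModule (oddGen oddGen_le)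
open Cfsg.Agent.Omega.NO3S.Level (lev Lev lev_isLev BO nxt)
open Cfsg.Agent.Omega.OM.LevD (LB K0 Fam)
open Cfsg.Agent.Omega.OM.LevB (FBlk)
open Cfsg.Agent.Omega.OM.Swap.Fam (Fm BF fm_AA fm_best SitF)
open Cfsg.Agent.Omega.OM.Swap (char2_cent)
open Cfsg.Agent.Omega.OM.SwapL (ZL BL lb wc cj_mul_eq cj_inv_eq norm_lev nb mem_C_iff mem_of_cj_B_le BM BMH Stg zc_elab exists_norm Phi act hat step nWr keep SitFFalse)

universe u

variable {G : Type u} [Group G] [Finite G]

section line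

variable {ι : Type} [Finite ι] {S : Sylow 2 G} {V Q : Subgroup G} {n : ℕ} {L W Z C A : ι → Subgroup G}

/-- **(INV)** -/
theorem supp_card (h : LnV S V Q n L W Z C A) {z z' g : G} (hz : z ∈ ZL (S : Subgroup G) n)
    (hz' : z' ∈ ZL (S : Subgroup G) n) (e : g * z * g⁻¹ = z') : {i | z' ∉ C i}.ncard = {i | z ∉ C i}.ncard := by
  obtain ⟨m, hm, e'⟩ := exists_norm S hz hz' e
  choose σ hσ _ hσC using perm h hm
  have hinj : Function.Injective σ := fun i j hij => by
    apply Z_inj h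
    have h1 := hσ i
    rw [hij, ← hσ j] at h1
    have := congrArg (cj m⁻¹) h1
    rwa [cj_inv_cj, cj_inv_cj] at this
  have hsur : Function.Surjective σ := Finite.surjective_of_injective hinj
  have h1 : {i | z' ∉ C i} = σ '' {i | z ∉ C i} := by
    ext j
    constructor
    · intro hj
      obtain ⟨i, rfl⟩ := hsur j
      refine ⟨i, fun hc => hj ?_, rfl⟩
      rw [← e']
      exact (hσC i z hz).2 hc
    · rintro ⟨i, hi, rfl⟩ hc
      rw [← e'] at hc
      exact hi ((hσC i z hz).1 hc)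
  rw [h1, Set.ncard_image_of_injective _ hinj]

theorem supp_one (h : LnV S V Q n L W Z C A) {i : ι} {z : G} (hz : z ∈ Z i) (h1 : z ≠ 1) : {j | z ∉ C j} = {i} := by
  ext j
  constructor
  · intro hj
    by_contra hne
    exact hj (Z_C h hne hz)
  · rintro rfl
    exact not_mem_C h hz h1

theorem supp_two (h : LnV S V Q n L W Z C A) {i j : ι} (hij : i ≠ j) {z w : G} (hz : z ∈ Z i) (h1 : z ≠ 1)
    (hw : w ∈ Z j) (h2 : w ≠ 1) : {k | z * w ∉ C k} = {i, j} := by
  ext k
  simp only [Set.mem_setOf_eq, Set.mem_insert_iff, Set.mem_singleton_iff]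
  constructor
  · intro hk
    by_contra hne
    push Not at hne
    exact hk (mul_mem (Z_C h hne.1 hz) (Z_C h hne.2 hw))
  · rintro (rfl | rfl) hc
    · exact not_mem_C h hz h1 ((Subgroup.mul_mem_cancel_right _ (Z_C h hij hw)).1 hc)
    · exact not_mem_C h hw h2 ((Subgroup.mul_mem_cancel_left _ (Z_C h (Ne.symm hij) hz)).1 hc)

/-- `z_i z_k` is not conjugate to `z_j`. -/
theorem no_one_two (h : LnV S V Q n L W Z C A) {i k j : ι} (hik : i ≠ k) {a b c g : G} (ha : a ∈ Z i) (ha1 : a ≠ 1)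
    (hb : b ∈ Z k) (hb1 : b ≠ 1) (hc : c ∈ Z j) (e : g * (a * b) * g⁻¹ = c) : False := by
  have hc1 : c ≠ 1 := by
    intro h1
    rw [h1] at e
    have h2 : a * b = 1 := by
      have := congrArg (fun t => g⁻¹ * t * g) e
      simpa [mul_assoc] using this
    have h3 : a ∈ C i := by
      have h4 : a = b⁻¹ := mul_eq_one_iff_eq_inv.1 h2
      rw [h4]
      exact inv_mem (Z_C h hik hb)
    exact not_mem_C h ha ha1 h3
  have h1 := supp_card h (mul_mem (h.fr.Z_le i ha) (h.fr.Z_le k hb)) (h.fr.Z_le j hc) e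
  rw [supp_one h hc hc1, supp_two h hik ha ha1 hb hb1, Set.ncard_singleton, Set.ncard_pair hik] at h1
  omega

/-- A conjugate of `z_i` in `Z_J` is a `z_j`. -/
theorem eq_single (h : LnV S V Q n L W Z C A) {i : ι} {a y g : G} (ha : a ∈ Z i) (ha1 : a ≠ 1)
    (hy : y ∈ ZL (S : Subgroup G) n) (e : g * a * g⁻¹ = y) : ∃ j, y ∈ Z j ∧ y ∉ C j := by
  have h1 := supp_card h (h.fr.Z_le i ha) hy e
  rw [supp_one h ha ha1, Set.ncard_singleton, Set.ncard_eq_one] at h1
  obtain ⟨j, hj⟩ := h1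
  obtain ⟨z, hz, hz1⟩ := Z_ne h j
  have hyj : y ∉ C j := by
    have : j ∈ {i | y ∉ C i} := by rw [hj]; exact rfl
    exact this
  refine ⟨j, ?_, hyj⟩
  have h2 : y = z := eq_of_supp h hy (h.fr.Z_le j hz) fun k => by
    have h3 : k ∈ {i | y ∉ C i} ↔ k ∈ {i | z ∉ C i} := by rw [hj, supp_one h hz hz1]
    simp only [Set.mem_setOf_eq] at h3
    exact not_iff_not.1 h3
  rw [h2]
  exact hz

/-- An element of full support is centralised by every 2-group over `B`. -/
theorem full_cent (h : LnV S V Q n L W Z C A) {z : G} (hz : z ∈ ZL (S : Subgroup G) n) (hf : ∀ i, z ∉ C i)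
    {T : Subgroup G} (hT : IsPGroup 2 T) (hB : BL (S : Subgroup G) n ≤ T) {t : G} (ht : t ∈ T) : t * z = z * t :=
  comm_of_supp h ((lb S n).two_le hT hB ht) hz fun i j _ => ⟨fun hc => absurd hc (hf i), fun hc => absurd hc (hf j)⟩

end line

end Cfsg.Agent.Omega.OM.SwapV.Lv
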